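import Groth.Prelude.Def_AGF
import Groth.Agent.AGF12.Cosets
import Groth.Agent.AGF12.QuotQA
import Groth.Agent.S11188
import Mathlib.AlgebraicGeometry.Morphisms.Affine
import Mathlib.AlgebraicGeometry.Morphisms.Flat
import Mathlib.RingTheory.Flat.FaithfullyFlat.Basic
import Mathlib.LinearAlgebra.TensorProduct.RightExactness

/-!
# Exactness of induction along an affine homogeneous space

If `G/H` is affine, surjections of representations of an open subgroup of `H` lift to equivariant functions on `G`.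
-/

set_option autoImplicit false
set_option backward.isDefEq.respectTransparency false
set_option backward.isDefEq.respectTransparency.types false

universe u

open CategoryTheory MonoidalCategory CartesianMonoidalCategory MonObj GrpObj AlgebraicGeometry
open scoped TensorProduct
open Groth.Agent.CommAlg4.AffPt Groth.Agent

noncomputable section

namespace Groth.Agent.AGF12.Matsushima

variable {k : Type u} [Field k]

/-- Global functions of a fibre product of affine schemes. -/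
theorem exists_tensor_equiv {P A B X : Over (Spec (CommRingCat.of k))} [IsAffine A.left] [IsAffine B.left] [IsAffine X.left]
    (p : P ⟶ A) (q : P ⟶ B) (α : A ⟶ X) (β : B ⟶ X) (h : IsPullback p q α β) :
    letI : Algebra Γ(X.left, ⊤) Γ(A.left, ⊤) := α.left.appTop.hom.toAlgebra
    letI : Algebra Γ(X.left, ⊤) Γ(B.left, ⊤) := β.left.appTop.hom.toAlgebra
    ∃ r : Γ(A.left, ⊤) ⊗[Γ(X.left, ⊤)] Γ(B.left, ⊤) →+* Γ(P.left, ⊤),
      Function.Bijective r ∧ ∀ x y, r (x ⊗ₜ y) = p.left.appTop x * q.left.appTop y := by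
  letI : Algebra Γ(X.left, ⊤) Γ(A.left, ⊤) := α.left.appTop.hom.toAlgebra
  letI : Algebra Γ(X.left, ⊤) Γ(B.left, ⊤) := β.left.appTop.hom.toAlgebra
  have h2 : IsPushout (CommRingCat.ofHom (algebraMap Γ(X.left, ⊤) Γ(A.left, ⊤))) (CommRingCat.ofHom (algebraMap Γ(X.left, ⊤) Γ(B.left, ⊤)))
      p.left.appTop q.left.appTop := isPushout_appTop_of_isPullback (h.map (Over.forget _))
  have h3 := CommRingCat.isPushout_tensorProduct Γ(X.left, ⊤) Γ(A.left, ⊤) Γ(B.left, ⊤)
  let e := h3.isoIsPushout _ _ h2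
  refine ⟨e.hom.hom, ConcreteCategory.bijective_of_isIso e.hom, fun x y => ?_⟩
  have e1 : CommRingCat.ofHom Algebra.TensorProduct.includeLeftRingHom ≫ e.hom = p.left.appTop :=
    IsPushout.inl_isoIsPushout_hom _ _ _ _
  have e2 : CommRingCat.ofHom (Algebra.TensorProduct.includeRight (R := Γ(X.left, ⊤)) (A := Γ(A.left, ⊤)) (B := Γ(B.left, ⊤))).toRingHom ≫ e.hom = q.left.appTop :=
    IsPushout.inr_isoIsPushout_hom _ _ _ _
  rw [← e1, ← e2]
  show e.hom.hom (x ⊗ₜ y) = e.hom.hom (x ⊗ₜ 1) * e.hom.hom (1 ⊗ₜ y)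
  rw [← map_mul, Algebra.TensorProduct.tmul_mul_tmul, _root_.mul_one, _root_.one_mul]

/-- Faithfully flat descent of a solution of a linear system. -/
theorem exists_of_tensor {A B P Q : Type u} [CommRing A] [CommRing B] [Algebra A B] [Module.FaithfullyFlat A B]
    [AddCommGroup P] [Module A P] [AddCommGroup Q] [Module A Q] (d : P →ₗ[A] Q) (φ : P →ₗ[A] B)
    (z : P ⊗[A] B) (hz : d.rTensor B z = 0) (hφ : φ.rTensor B z = (1 : B) ⊗ₜ[A] (1 : B)) :
    ∃ x, d x = 0 ∧ φ x = 1 := by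
  obtain ⟨z', rfl⟩ := (Module.Flat.rTensor_exact B (LinearMap.exact_subtype_ker_map d) z).1 hz
  let N := LinearMap.range (φ ∘ₗ (LinearMap.ker d).subtype)
  have h1 : N.mkQ.rTensor B ((1 : B) ⊗ₜ[A] (1 : B)) = 0 := by
    rw [← hφ, ← LinearMap.rTensor_comp_apply, ← LinearMap.rTensor_comp_apply, LinearMap.comp_assoc,
      show N.mkQ ∘ₗ φ ∘ₗ (LinearMap.ker d).subtype = 0 from LinearMap.range_mkQ_comp _, LinearMap.rTensor_zero]
    rfl
  rw [LinearMap.rTensor_tmul] at h1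
  have h2 : TensorProduct.mk A B (B ⧸ N) 1 (N.mkQ 1) = TensorProduct.mk A B (B ⧸ N) 1 0 := by
    rw [TensorProduct.mk_apply, map_zero, ← TensorProduct.comm_tmul, h1, map_zero]
  have h3 := Module.FaithfullyFlat.tensorProduct_mk_injective (A := A) (B := B) (B ⧸ N) h2
  obtain ⟨⟨x, hx⟩, hx'⟩ : (1 : B) ∈ N := (Submodule.Quotient.mk_eq_zero N).1 h3
  exact ⟨x, hx, hx'⟩

theorem isPullback_whisker {G H₀ H : Over (Spec (CommRingCat.of k))} :
    IsPullback (fst (G ⊗ H₀) H) (lift (fst (G ⊗ H₀) H ≫ fst G H₀) (snd (G ⊗ H₀) H)) (fst G H₀) (fst G H) := by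
  refine ⟨⟨by rw [lift_fst]⟩, ⟨Limits.PullbackCone.IsLimit.mk (by rw [lift_fst])
    (fun s => lift s.fst (s.snd ≫ snd G H)) (fun s => lift_fst _ _) (fun s => ?_) (fun s m h1 h2 => ?_)⟩⟩
  · apply CartesianMonoidalCategory.hom_ext
    · simp [Category.assoc, s.condition]
    · simp [Category.assoc]
  · apply CartesianMonoidalCategory.hom_ext
    · simp [h1]
    · rw [lift_snd, ← h2, Category.assoc, lift_snd]

variable [IsAlgClosed k] {G H H₀ X : Over (Spec (CommRingCat.of k))} [GrpObj G] [GrpObj H] [GrpObj H₀]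
  [IsAffine G.left] [Smooth G.hom] [IsAffine H.left] [Smooth H.hom] [IsAffine H₀.left] [Smooth H₀.hom] [IsAffine X.left]

theorem exists_rightTranslate {G : Over (Spec (CommRingCat.of k))} [GrpObj G] [IsAffine G.left] (g : VecGrp.pt k k ⟶ G)
    (x : Γ(G.left, ⊤)) : ∃ y : Γ(G.left, ⊤), ∀ t : VecGrp.pt k k ⟶ G, algPt t y = algPt (t * g) x := by
  letI := gAlg G
  obtain ⟨uG, hu⟩ := exists_univ_pt G
  refine ⟨algPt (uG * (VecGrp.ptMap (Algebra.ofId k Γ(G.left, ⊤)) ≫ g)) x, fun t => ?_⟩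
  obtain ⟨φ, hφ⟩ := exists_algHom t
  rw [← hφ, ← algPt_ptMap φ, MonObj.comp_mul]
  refine congrArg (fun z => algPt z x) (congrArg₂ (fun a b => a * b) (pt_eq _ _ fun y => ?_) (pt_eq _ _ fun y => ?_))
  · rw [algPt_ptMap, hu, hφ]
  · rw [algPt_ptMap, algPt_ptMap]; exact φ.commutes _

variable {i : H ⟶ G} [IsMonHom i] (j : H₀ ⟶ H) [IsMonHom j] [IsOpenImmersion j.left]
  {a : AlgGrp.Action G X} {o : 𝟙_ (Over (Spec (CommRingCat.of k))) ⟶ X}

/-- A vector valued function on `H` extending `y ↦ ρ(y) a₀` equivariantly from `H₀`. -/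
theorem exists_coset_function [ConnectedSpace H₀.left] {n : Type u} [Fintype n] [DecidableEq n]
    (ρ : (VecGrp.pt k k ⟶ H₀) →* Matrix n n k) (F : n → n → Γ(H₀.left, ⊤)) (hF : ∀ y a b, algPt y (F a b) = ρ y a b)
    (π : n → k) (hπ : ∀ y, Matrix.vecMul π (ρ y) = π) (a₀ : n → k) (ha₀ : π ⬝ᵥ a₀ = 1) :
    ∃ c : n → Γ(H.left, ⊤), (∀ (y : VecGrp.pt k k ⟶ H₀) (h : VecGrp.pt k k ⟶ H) (a : n),
        algPt ((y ≫ j) * h) (c a) = ∑ b, ρ y a b * algPt h (c b)) ∧
      ∀ h : VecGrp.pt k k ⟶ H, ∑ a, π a * algPt h (c a) = 1 := by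
  classical
  haveI : IsClosedImmersion j.left := S11194.isClosedImmersion_of_open j
  haveI : Mono j := (Over.forget _).mono_of_mono_map (show Mono j.left from inferInstance)
  haveI := finite_cosets j
  haveI : Fintype ((VecGrp.pt k k ⟶ H) ⧸ ptsRange j) := Fintype.ofFinite _
  obtain ⟨e, he, -, he1, he0⟩ := exists_idem j
  letI := gAlg H₀
  letI := gAlg H
  have hsurj : ∀ y, ∃ x, j.left.appTop x = y := fun y => Scheme.Hom.app_surjective j.left ⊤ (isAffineOpen_top _) y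
  choose Ft hFt using fun a => hsurj (∑ b, F a b * algebraMap k Γ(H₀.left, ⊤) (a₀ b))
  have hFtv : ∀ (y : VecGrp.pt k k ⟶ H₀) a, algPt (y ≫ j) (Ft a) = ∑ b, ρ y a b * a₀ b := fun y a => by
    rw [algPt_comp, hFt, map_sum]
    refine Finset.sum_congr rfl fun b _ => ?_
    rw [map_mul, hF, show algPt y (algebraMap k Γ(H₀.left, ⊤) (a₀ b)) = a₀ b from algPt_appTop_hom y _]
  choose R hR using fun (g : VecGrp.pt k k ⟶ H) (x : Γ(H.left, ⊤)) => exists_rightTranslate g x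
  let c : n → Γ(H.left, ⊤) := fun a => ∑ q : (VecGrp.pt k k ⟶ H) ⧸ ptsRange j, R q.out e * R q.out (Ft a)
  have hval : ∀ h : VecGrp.pt k k ⟶ H, ∃ (q : (VecGrp.pt k k ⟶ H) ⧸ ptsRange j) (y : VecGrp.pt k k ⟶ H₀),
      y ≫ j = h * q.out ∧ ∀ a, algPt h (c a) = ∑ b, ρ y a b * a₀ b := by
    intro h
    let q : (VecGrp.pt k k ⟶ H) ⧸ ptsRange j := QuotientGroup.mk h⁻¹
    have hq : h * q.out ∈ ptsRange j := by
      have h1 : (h⁻¹)⁻¹ * q.out ∈ ptsRange j := QuotientGroup.eq.1 (Quotient.out_eq q).symm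
      rwa [_root_.inv_inv] at h1
    have hne : ∀ q' ≠ q, h * Quotient.out q' ∉ ptsRange j := fun q' hne hmem => hne (by
      rw [← QuotientGroup.out_eq' q']
      exact (QuotientGroup.eq.2 (show (h⁻¹)⁻¹ * q'.out ∈ ptsRange j by rwa [_root_.inv_inv])).symm)
    obtain ⟨y, hy⟩ := (mem_ptsRange j _).1 hq
    refine ⟨q, y, hy, fun a => ?_⟩
    simp only [c, map_sum, map_mul, hR]
    rw [Finset.sum_eq_single q (fun q' _ hq' => by rw [he0 _ (hne q' hq'), zero_mul]) (fun h => absurd (Finset.mem_univ q) h),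
      he1 _ hq, _root_.one_mul, ← hy, hFtv]
  refine ⟨c, fun y h a => ?_, fun h => ?_⟩
  · obtain ⟨q, z, hz, hzv⟩ := hval h
    obtain ⟨q', z', hz', hzv'⟩ := hval ((y ≫ j) * h)
    have hqq : q' = q := by
      have hm : h * q'.out ∈ ptsRange j := by
        have h1 : h * q'.out = (y ≫ j)⁻¹ * (z' ≫ j) := by rw [hz', _root_.mul_assoc, inv_mul_cancel_left]
        rw [h1]
        exact Subgroup.mul_mem _ (Subgroup.inv_mem _ ((mem_ptsRange j _).2 ⟨y, rfl⟩)) ((mem_ptsRange j _).2 ⟨z', rfl⟩)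
      rw [← QuotientGroup.out_eq' q, ← QuotientGroup.out_eq' q']
      refine QuotientGroup.eq.2 ?_
      have h2 : q'.out⁻¹ * q.out = (h * q'.out)⁻¹ * (h * q.out) := by group
      rw [h2]
      exact Subgroup.mul_mem _ (Subgroup.inv_mem _ hm) ((mem_ptsRange j _).2 ⟨z, hz⟩)
    subst hqq
    have hzz : z' = y * z := (cancel_mono j).1 (by rw [MonObj.mul_comp, hz', hz, _root_.mul_assoc])
    rw [hzv', hzz, map_mul]
    simp only [hzv, Matrix.mul_apply, Finset.sum_mul, Finset.mul_sum, _root_.mul_assoc]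
    exact Finset.sum_comm
  · obtain ⟨q, y, -, hy⟩ := hval h
    simp only [hy]
    calc ∑ a, π a * ∑ b, ρ y a b * a₀ b = π ⬝ᵥ ((ρ y).mulVec a₀) := rfl
      _ = 1 := by rw [Matrix.dotProduct_mulVec, hπ, ha₀]

/-- Equivariant functions on `G` lifting the constant `1`. -/
theorem exists_equivariant_section [ConnectedSpace H₀.left] (hX : AGF.IsQuotient i X a o) {n : Type u} [Fintype n]
    [DecidableEq n] (ρ : (VecGrp.pt k k ⟶ H₀) →* Matrix n n k) (F : n → n → Γ(H₀.left, ⊤))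
    (hF : ∀ y a b, algPt y (F a b) = ρ y a b)
    (π : n → k) (hπ : ∀ y, Matrix.vecMul π (ρ y) = π) (a₀ : n → k) (ha₀ : π ⬝ᵥ a₀ = 1) :
    ∃ x : n → Γ(G.left, ⊤), (∀ (y : VecGrp.pt k k ⟶ H₀) (g : VecGrp.pt k k ⟶ G) (c : n),
        ∑ b, ρ y c b * algPt (g * (y ≫ j ≫ i)) (x b) = algPt g (x c)) ∧
      ∀ g : VecGrp.pt k k ⟶ G, ∑ c, π c * algPt g (x c) = 1 := by
  classical
  haveI := hX.1
  haveI := hX.2.1
  haveI := hX.2.2.1
  haveI hGH₀ : IsAffine (G ⊗ H₀).left := by rw [Over.tensorObj_left]; infer_instance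
  haveI : IsAffine (G ⊗ H).left := by rw [Over.tensorObj_left]; infer_instance
  haveI : IsAffine ((G ⊗ H₀) ⊗ H).left := by rw [Over.tensorObj_left]; infer_instance
  haveI : Smooth (G ⊗ H).hom := by
    rw [Over.tensorObj_hom]
    haveI : Smooth (Limits.pullback.fst G.hom H.hom) :=
      MorphismProperty.pullback_fst (P := @Smooth) _ _ inferInstance
    infer_instance
  haveI : Smooth (G ⊗ H₀).hom := by
    rw [Over.tensorObj_hom]
    haveI : Smooth (Limits.pullback.fst G.hom H₀.hom) :=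
      MorphismProperty.pullback_fst (P := @Smooth) _ _ inferInstance
    infer_instance
  haveI : Smooth ((G ⊗ H₀) ⊗ H).hom := by
    rw [Over.tensorObj_hom]
    haveI : Smooth (Limits.pullback.fst (G ⊗ H₀).hom H.hom) :=
      MorphismProperty.pullback_fst (P := @Smooth) _ _ inferInstance
    infer_instance
  haveI : AlgebraicGeometry.IsReduced (G ⊗ H).left := WeilLib.isReduced_of_smooth (G ⊗ H).hom
  haveI : AlgebraicGeometry.IsReduced ((G ⊗ H₀) ⊗ H).left := WeilLib.isReduced_of_smooth ((G ⊗ H₀) ⊗ H).hom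
  letI := gAlg G
  obtain ⟨c, hc, hcπ⟩ := exists_coset_function j ρ F hF π hπ a₀ ha₀
  let orb := a.orbitMap o
  let m : G ⊗ H ⟶ G := (G ◁ i) ≫ μ[G]
  let act₀ : G ⊗ H₀ ⟶ G := (G ◁ (j ≫ i)) ≫ μ[G]
  have hm : ∀ (g : VecGrp.pt k k ⟶ G) (h : VecGrp.pt k k ⟶ H), lift g h ≫ m = g * (h ≫ i) := fun g h => by
    rw [Hom.mul_def]
    simp only [m, ← Category.assoc]
    congr 1
    apply CartesianMonoidalCategory.hom_ext <;> simp
  have hact : ∀ (g : VecGrp.pt k k ⟶ G) (y : VecGrp.pt k k ⟶ H₀), lift g y ≫ act₀ = g * (y ≫ j ≫ i) := fun g y => by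
    rw [Hom.mul_def]
    simp only [act₀, ← Category.assoc]
    congr 1
    apply CartesianMonoidalCategory.hom_ext <;> simp
  have hw : act₀ ≫ orb = fst G H₀ ≫ orb := by
    have e1 : (G ◁ j) ≫ m = act₀ := by simp [m, act₀]
    rw [← e1, Category.assoc, Quot.comp_orbit hX, ← Category.assoc, whiskerLeft_fst]
  letI : Algebra Γ(X.left, ⊤) Γ(G.left, ⊤) := orb.left.appTop.hom.toAlgebra
  letI : Algebra Γ(X.left, ⊤) Γ((G ⊗ H₀).left, ⊤) := (fst G H₀ ≫ orb).left.appTop.hom.toAlgebra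
  haveI : Module.FaithfullyFlat Γ(X.left, ⊤) Γ(G.left, ⊤) :=
    ((Flat.flat_and_surjective_iff_faithfullyFlat_of_isAffine orb.left).1 ⟨‹Flat orb.left›, ‹Surjective orb.left›⟩ :)
  obtain ⟨q, hqb, hq⟩ := exists_tensor_equiv (fst G H) m orb orb hX.2.2.2
  obtain ⟨r, hrb, hr⟩ := exists_tensor_equiv (fst (G ⊗ H₀) H) (lift (fst (G ⊗ H₀) H ≫ fst G H₀) (snd (G ⊗ H₀) H) ≫ m)
    (fst G H₀ ≫ orb) orb (isPullback_whisker.paste_vert hX.2.2.2)
  let fs : Γ(G.left, ⊤) →ₗ[Γ(X.left, ⊤)] Γ((G ⊗ H₀).left, ⊤) :=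
    { toFun := fun x => (fst G H₀).left.appTop x
      map_add' := fun x y => map_add _ x y
      map_smul' := fun s x => map_mul (fst G H₀).left.appTop.hom _ x }
  let ac : Γ(G.left, ⊤) →ₗ[Γ(X.left, ⊤)] Γ((G ⊗ H₀).left, ⊤) :=
    { toFun := fun x => act₀.left.appTop x
      map_add' := fun x y => map_add _ x y
      map_smul' := fun s x => by
        show act₀.left.appTop (orb.left.appTop s * x) = (fst G H₀).left.appTop (orb.left.appTop s) * act₀.left.appTop x
        rw [map_mul]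
        congr 1
        exact congrArg (fun z : G ⊗ H₀ ⟶ X => z.left.appTop s) hw }
  let Fs : n → n → Γ((G ⊗ H₀).left, ⊤) := fun a b => (snd G H₀).left.appTop (F a b)
  let d : (n → Γ(G.left, ⊤)) →ₗ[Γ(X.left, ⊤)] (n → Γ((G ⊗ H₀).left, ⊤)) :=
    LinearMap.pi fun a => (∑ b, (LinearMap.mulLeft Γ(X.left, ⊤) (Fs a b)) ∘ₗ ac ∘ₗ LinearMap.proj b) - fs ∘ₗ LinearMap.proj a
  let φ : (n → Γ(G.left, ⊤)) →ₗ[Γ(X.left, ⊤)] Γ(G.left, ⊤) :=
    ∑ a, LinearMap.mulLeft Γ(X.left, ⊤) (algebraMap k Γ(G.left, ⊤) (π a)) ∘ₗ LinearMap.proj a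
  choose z hz using fun a => hqb.2 ((snd G H).left.appTop (c a))
  let f : (n → Γ(G.left, ⊤)) ⊗[Γ(X.left, ⊤)] Γ(G.left, ⊤) :=
    ∑ a, (LinearMap.single Γ(X.left, ⊤) (fun _ => Γ(G.left, ⊤)) a).rTensor Γ(G.left, ⊤) (z a)
  have hproj : ∀ a, (LinearMap.proj a : (n → Γ(G.left, ⊤)) →ₗ[Γ(X.left, ⊤)] _).rTensor Γ(G.left, ⊤) f = z a := fun a => by
    simp only [f, map_sum, ← LinearMap.comp_apply, ← LinearMap.rTensor_comp]
    rw [Finset.sum_eq_single a]
    · rw [LinearMap.proj_comp_single_same, LinearMap.rTensor_id]; rfl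
    · intro b _ hb
      rw [LinearMap.proj_comp_single_ne _ _ a b (Ne.symm hb), LinearMap.rTensor_zero]; rfl
    · exact fun h => absurd (Finset.mem_univ a) h
  have hzero : ∀ w : (n → Γ((G ⊗ H₀).left, ⊤)) ⊗[Γ(X.left, ⊤)] Γ(G.left, ⊤),
      (∀ a, (LinearMap.proj a : (n → Γ((G ⊗ H₀).left, ⊤)) →ₗ[Γ(X.left, ⊤)] _).rTensor Γ(G.left, ⊤) w = 0) → w = 0 := fun w hw => by
    have e : (∑ a : n, LinearMap.single Γ(X.left, ⊤) (fun _ => Γ((G ⊗ H₀).left, ⊤)) a ∘ₗ LinearMap.proj a) = LinearMap.id := by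
      apply LinearMap.ext
      intro v
      ext b
      simp [Finset.sum_apply, Pi.single_apply]
    have h1 := congrArg (fun g => g.rTensor Γ(G.left, ⊤) w) e
    simp only [LinearMap.rTensor_id, LinearMap.id_coe, id_eq] at h1
    rw [← h1, ← LinearMap.coe_rTensorHom, map_sum, LinearMap.sum_apply]
    refine Finset.sum_eq_zero fun a _ => ?_
    rw [LinearMap.coe_rTensorHom, LinearMap.rTensor_comp, LinearMap.comp_apply, hw a, map_zero]
  have hdf : d.rTensor Γ(G.left, ⊤) f = 0 := by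
    refine hzero _ fun e => ?_
    have e1 : (LinearMap.proj e : (n → Γ((G ⊗ H₀).left, ⊤)) →ₗ[Γ(X.left, ⊤)] _).rTensor Γ(G.left, ⊤) (d.rTensor Γ(G.left, ⊤) f) =
        (∑ b, (LinearMap.mulLeft Γ(X.left, ⊤) (Fs e b) ∘ₗ ac).rTensor Γ(G.left, ⊤) (z b)) - fs.rTensor Γ(G.left, ⊤) (z e) := by
      rw [← LinearMap.comp_apply, ← LinearMap.rTensor_comp, LinearMap.proj_pi, LinearMap.rTensor_sub, LinearMap.sub_apply]
      simp only [← LinearMap.coe_rTensorHom, map_sum, LinearMap.sum_apply]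
      simp only [LinearMap.coe_rTensorHom, LinearMap.rTensor_comp, LinearMap.comp_apply, hproj]
    rw [e1]
    refine hrb.1 ?_
    rw [map_zero]
    refine S11188.eq_zero_of_pts ((G ⊗ H₀) ⊗ H) _ fun w => ?_
    obtain ⟨g, hg⟩ : ∃ g, g = w ≫ fst (G ⊗ H₀) H ≫ fst G H₀ := ⟨_, rfl⟩
    obtain ⟨y, hy⟩ : ∃ y, y = w ≫ fst (G ⊗ H₀) H ≫ snd G H₀ := ⟨_, rfl⟩
    obtain ⟨h, hh⟩ : ∃ h, h = w ≫ snd (G ⊗ H₀) H := ⟨_, rfl⟩
    have hwy : w ≫ fst (G ⊗ H₀) H = lift g y := by
      apply CartesianMonoidalCategory.hom_ext <;> simp [hg, hy, Category.assoc]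
    have hwm : w ≫ lift (fst (G ⊗ H₀) H ≫ fst G H₀) (snd (G ⊗ H₀) H) ≫ m = g * (h ≫ i) := by
      rw [← hm, ← Category.assoc]
      congr 1
      apply CartesianMonoidalCategory.hom_ext <;> simp [hg, hh, Category.assoc]
    have hrw : ∀ s x, algPt w (r (s ⊗ₜ x)) = algPt (lift g y) s * algPt (g * (h ≫ i)) x := fun s x => by
      rw [hr, map_mul, ← algPt_comp, ← algPt_comp, hwy, hwm]
    have hqv : ∀ (g' : VecGrp.pt k k ⟶ G) (h' : VecGrp.pt k k ⟶ H) (u : Γ(G.left, ⊤) ⊗[Γ(X.left, ⊤)] Γ(G.left, ⊤)) (Φ : Γ(G.left, ⊤) ⊗[Γ(X.left, ⊤)] Γ(G.left, ⊤) →+ k),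
        (∀ x x', Φ (x ⊗ₜ x') = algPt g' x * algPt (g' * (h' ≫ i)) x') → Φ u = algPt (lift g' h') (q u) := by
      intro g' h' u Φ hΦ
      induction u using TensorProduct.induction_on with
      | zero => simp only [map_zero]
      | tmul x x' => rw [hΦ, hq, map_mul, ← algPt_comp, ← algPt_comp, lift_fst, hm]
      | add p p' hp hp' => simp only [map_add, hp, hp']
    have hfs : ∀ u, algPt w (r (fs.rTensor Γ(G.left, ⊤) u)) = algPt (lift g h) (q u) := fun u => by
      refine hqv g h u (((algPt w).comp r).toAddMonoidHom.comp (fs.rTensor Γ(G.left, ⊤)).toAddMonoidHom) fun x x' => ?_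
      show algPt w (r (fs x ⊗ₜ x')) = _
      rw [hrw]
      congr 1
      show algPt (lift g y) ((fst G H₀).left.appTop x) = _
      rw [← algPt_comp, lift_fst]
    have hac : ∀ b u, algPt w (r ((LinearMap.mulLeft Γ(X.left, ⊤) (Fs e b) ∘ₗ ac).rTensor Γ(G.left, ⊤) u)) =
        ρ y e b * algPt (lift (g * (y ≫ j ≫ i)) ((y ≫ j)⁻¹ * h)) (q u) := fun b u => by
      induction u using TensorProduct.induction_on with
      | zero => simp only [map_zero, mul_zero]
      | tmul x x' =>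
        show algPt w (r ((Fs e b * act₀.left.appTop x) ⊗ₜ x')) = _
        rw [hrw, hq, map_mul, map_mul, ← algPt_comp, ← algPt_comp, ← algPt_comp, ← algPt_comp, lift_fst, lift_snd, hact, hm,
          hF, MonObj.mul_comp, GrpObj.inv_comp]
        simp only [Category.assoc, _root_.mul_assoc, mul_inv_cancel_left]
      | add p p' hp hp' => simp only [map_add, hp, hp', mul_add]
    simp only [map_sub, map_sum, hfs, hac, hz, ← algPt_comp, lift_snd]
    have h1 := hc y ((y ≫ j)⁻¹ * h) e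
    rw [mul_inv_cancel_left] at h1
    rw [← h1, sub_self]
  have hφf : φ.rTensor Γ(G.left, ⊤) f = (1 : Γ(G.left, ⊤)) ⊗ₜ[Γ(X.left, ⊤)] (1 : Γ(G.left, ⊤)) := by
    simp only [φ, ← LinearMap.coe_rTensorHom, map_sum, LinearMap.sum_apply]
    simp only [LinearMap.coe_rTensorHom, LinearMap.rTensor_comp, LinearMap.comp_apply, hproj]
    refine hqb.1 (sub_eq_zero.1 (S11188.eq_zero_of_pts (G ⊗ H) _ fun w => ?_))
    have hw' : ∀ b u, algPt w (q ((LinearMap.mulLeft Γ(X.left, ⊤) (algebraMap k Γ(G.left, ⊤) (π b))).rTensor Γ(G.left, ⊤) u)) =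
        π b * algPt w (q u) := fun b u => by
      induction u using TensorProduct.induction_on with
      | zero => simp only [map_zero, mul_zero]
      | tmul x x' =>
        show algPt w (q ((algebraMap k Γ(G.left, ⊤) (π b) * x) ⊗ₜ x')) = _
        have hb : algPt w ((fst G H).left.appTop (algebraMap k Γ(G.left, ⊤) (π b))) = π b :=
          (algPt_comp w (fst G H) _).symm.trans (algPt_appTop_hom _ _)
        rw [hq, hq]
        simp only [map_mul, hb, _root_.mul_assoc]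
      | add p p' hp hp' => simp only [map_add, hp, hp', mul_add]
    simp only [map_sub, map_sum, hw', hz, ← algPt_comp]
    rw [hcπ, hq, map_one, map_one, _root_.mul_one, map_one, sub_self]
  obtain ⟨x, hxd, hxφ⟩ := exists_of_tensor d φ f hdf hφf
  refine ⟨x, fun y g e => ?_, fun g => ?_⟩
  · have h1 := congrArg (algPt (lift g y)) (congrFun hxd e)
    have hd : d x e = (∑ b, Fs e b * ac (x b)) - fs (x e) := by
      simp only [d, LinearMap.pi_apply, LinearMap.sub_apply, LinearMap.coe_sum, Finset.sum_apply, LinearMap.comp_apply,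
        LinearMap.proj_apply, LinearMap.mulLeft_apply]
    rw [hd, Pi.zero_apply, map_zero, map_sub, map_sum, sub_eq_zero] at h1
    simp only [map_mul] at h1
    refine Eq.trans ?_ (h1.trans ?_)
    · refine Finset.sum_congr rfl fun b _ => ?_
      show _ = algPt (lift g y) ((snd G H₀).left.appTop (F e b)) * algPt (lift g y) (act₀.left.appTop (x b))
      rw [← algPt_comp, ← algPt_comp, lift_snd, hact, hF]
    · show algPt (lift g y) ((fst G H₀).left.appTop (x e)) = _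
      rw [← algPt_comp, lift_fst]
  · have h1 := congrArg (algPt g) hxφ
    simp only [φ, LinearMap.comp_apply, LinearMap.sum_apply, LinearMap.proj_apply,
      LinearMap.mulLeft_apply, map_sum, map_mul, map_one] at h1
    refine Eq.trans (Finset.sum_congr rfl fun b _ => ?_) h1
    rw [show algPt g (algebraMap k Γ(G.left, ⊤) (π b)) = π b from algPt_appTop_hom g _]

end Groth.Agent.AGF12.Matsushima

end
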