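import Groth.Prelude.Def_AGF
import Groth.Agent.AGF12.Inverse
import Groth.Agent.S11212

/-!
# Separation of points gives invariant polynomials
-/

set_option autoImplicit false

universe u

open CategoryTheory MonoidalCategory CartesianMonoidalCategory MonObj GrpObj AlgebraicGeometry
open scoped TensorProduct
open Groth.Agent.CommAlg4.AffPt Groth.Agent

noncomputable section

namespace Groth.Agent.AGF12.Matsushima

variable {k : Type u} [Field k] [IsAlgClosed k] {G : Over (Spec (CommRingCat.of k))} [GrpObj G] [IsAffine G.left] [Smooth G.hom]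
  {m : Type u} [Fintype m] [DecidableEq m]

set_option backward.isDefEq.respectTransparency false in
/-- A regular matrix multiplicative on rational points is multiplicative on all points. -/
theorem matrix_mul (M : m → m → Γ(G.left, ⊤))
    (hM : ∀ (g g' : VecGrp.pt k k ⟶ G) a b, algPt (g * g') (M a b) = ∑ c, algPt g (M a c) * algPt g' (M c b))
    (B : Type u) [CommRing B] [Algebra k B] (g g' : VecGrp.pt k B ⟶ G) (a b : m) :
    algPt (g * g') (M a b) = ∑ c, algPt g (M a c) * algPt g' (M c b) := by
  haveI : IsAffine (G ⊗ G).left := by rw [Over.tensorObj_left]; infer_instance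
  haveI : Smooth (G ⊗ G).hom := by
    rw [Over.tensorObj_hom]
    haveI : Smooth (Limits.pullback.fst G.hom G.hom) :=
      MorphismProperty.pullback_fst (P := @Smooth) _ _ inferInstance
    infer_instance
  haveI : AlgebraicGeometry.IsReduced (G ⊗ G).left := WeilLib.isReduced_of_smooth (G ⊗ G).hom
  letI := gAlg (G ⊗ G)
  obtain ⟨uP, hu⟩ := exists_univ_pt (G ⊗ G)
  let z := algPt ((uP ≫ fst G G) * (uP ≫ snd G G)) (M a b) -
    ∑ c, algPt (uP ≫ fst G G) (M a c) * algPt (uP ≫ snd G G) (M c b)
  have hz : z = 0 := by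
    refine S11188.eq_zero_of_pts (G ⊗ G) _ fun t => ?_
    obtain ⟨φ, hφ⟩ := exists_algHom t
    rw [← hφ]
    simp only [z, map_sub, map_sum, map_mul, ← algPt_ptMap φ, MonObj.comp_mul]
    rw [hM, sub_self]
  obtain ⟨φ, hφ⟩ := exists_algHom (lift g g')
  have hp : VecGrp.ptMap φ ≫ uP = lift g g' := pt_eq _ _ fun x => by rw [algPt_ptMap, hu, hφ]
  have h1 := congrArg φ hz
  simp only [z, map_sub, map_sum, map_mul, map_zero, ← algPt_ptMap φ, MonObj.comp_mul] at h1
  simp only [← Category.assoc, hp, lift_fst, lift_snd] at h1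
  exact sub_eq_zero.1 h1

local notation "Pol" => MvPolynomial m k

/-- Extension of scalars of an algebra map. -/
def liftB {P : Type u} [CommRing P] [Algebra k P] {B : Type u} [CommRing B] [Algebra k B] (s : P →ₐ[k] B ⊗[k] P) :
    B ⊗[k] P →ₐ[B] B ⊗[k] P :=
  Algebra.TensorProduct.lift (Algebra.ofId B (B ⊗[k] P)) s fun _ _ => Commute.all _ _

/-- The images of the variables. -/
def substVar (M : m → m → Γ(G.left, ⊤)) {B : Type u} [CommRing B] [Algebra k B] (g : VecGrp.pt k B ⟶ G) :
    Pol →ₐ[k] B ⊗[k] Pol :=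
  MvPolynomial.aeval fun a => ∑ b, algPt g (M b a) ⊗ₜ[k] (MvPolynomial.X b : Pol)

/-- Substitution by the matrix of a point. -/
def subst (M : m → m → Γ(G.left, ⊤)) {B : Type u} [CommRing B] [Algebra k B] (g : VecGrp.pt k B ⟶ G) :
    B ⊗[k] Pol →ₐ[B] B ⊗[k] Pol :=
  liftB (substVar M g)

theorem subst_X (M : m → m → Γ(G.left, ⊤)) {B : Type u} [CommRing B] [Algebra k B] (g : VecGrp.pt k B ⟶ G) (a : m) :
    subst M g ((1 : B) ⊗ₜ[k] MvPolynomial.X a) = ∑ b, algPt g (M b a) ⊗ₜ[k] (MvPolynomial.X b : Pol) := by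
  simp [subst, liftB, substVar, ← Algebra.TensorProduct.one_def]

theorem subst_tmul (M : m → m → Γ(G.left, ⊤)) {B : Type u} [CommRing B] [Algebra k B] (g : VecGrp.pt k B ⟶ G) (x : B) (f : Pol) :
    subst M g (x ⊗ₜ[k] f) = algebraMap B (B ⊗[k] Pol) x * subst M g ((1 : B) ⊗ₜ[k] f) := by
  simp [subst, liftB, substVar, ← Algebra.TensorProduct.one_def]

/-- Invariant polynomials separating a nonzero fixed point from the origin. -/
theorem exists_invariant (hG : VecGrp.IsReductiveGrp k G) (thmAbiv : AGF.ReductiveQuotSeparates k)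
    (M : m → m → Γ(G.left, ⊤))
    (hM : ∀ (g g' : VecGrp.pt k k ⟶ G) a b, algPt (g * g') (M a b) = ∑ c, algPt g (M a c) * algPt g' (M c b))
    (hM1 : ∀ a b, algPt (1 : VecGrp.pt k k ⟶ G) (M a b) = if a = b then 1 else 0)
    (l : m → k) (hl : ∀ (g : VecGrp.pt k k ⟶ G) a, ∑ b, l b * algPt g (M b a) = l a) (hl0 : l ≠ 0) :
    ∃ F : Pol, MvPolynomial.eval l F ≠ MvPolynomial.eval 0 F ∧
      ∀ (g : VecGrp.pt k k ⟶ G) (ξ : m → k),
        MvPolynomial.eval (fun a => ∑ b, ξ b * algPt g (M b a)) F = MvPolynomial.eval ξ F := by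
  classical
  haveI : AlgebraicGeometry.IsReduced G.left := WeilLib.isReduced_of_smooth G.hom
  have h1B : ∀ (B : Type u) [CommRing B] [Algebra k B] a b, algPt (1 : VecGrp.pt k B ⟶ G) (M a b) = if a = b then 1 else 0 := by
    intro B _ _ a b
    rw [show (1 : VecGrp.pt k B ⟶ G) = VecGrp.ptMap (Algebra.ofId k B) ≫ (1 : VecGrp.pt k k ⟶ G) from (MonObj.comp_one _).symm,
      algPt_ptMap, hM1]
    split <;> simp
  have hcomp : ∀ (B : Type u) [CommRing B] [Algebra k B] (g g' : VecGrp.pt k B ⟶ G),
      subst M (g * g') = (subst M g).comp (subst M g') := by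
    intro B _ _ g g'
    refine Algebra.TensorProduct.ext ?_ ?_
    · ext
    · refine MvPolynomial.algHom_ext fun a => ?_
      show subst M (g * g') ((1 : B) ⊗ₜ[k] MvPolynomial.X a) = subst M g (subst M g' ((1 : B) ⊗ₜ[k] MvPolynomial.X a))
      rw [subst_X, subst_X, map_sum]
      simp only [matrix_mul M hM B g g', TensorProduct.sum_tmul]
      rw [Finset.sum_comm]
      refine Finset.sum_congr rfl fun c _ => ?_
      rw [subst_tmul, subst_X, Finset.mul_sum]
      refine Finset.sum_congr rfl fun b _ => ?_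
      rw [Algebra.TensorProduct.algebraMap_apply, Algebra.TensorProduct.tmul_mul_tmul, _root_.one_mul, mul_comm]
      simp
  have hone : ∀ (B : Type u) [CommRing B] [Algebra k B] (z : B ⊗[k] Pol), subst M (1 : VecGrp.pt k B ⟶ G) z = z := by
    intro B _ _ z
    refine AlgHom.congr_fun (show subst M (1 : VecGrp.pt k B ⟶ G) = AlgHom.id B _ from
      Algebra.TensorProduct.ext (by ext) (MvPolynomial.algHom_ext fun a => ?_)) z
    show subst M (1 : VecGrp.pt k B ⟶ G) ((1 : B) ⊗ₜ[k] MvPolynomial.X a) = (1 : B) ⊗ₜ[k] MvPolynomial.X a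
    rw [subst_X]
    rw [Finset.sum_eq_single a (fun b _ hb => by simp [h1B, hb]) (fun h => absurd (Finset.mem_univ a) h)]
    simp [h1B]
  let σ : VecGrp.GMod G Pol :=
    { ρ := fun B _ _ =>
        MonoidHom.mk' (fun g => LinearEquiv.ofLinear (subst M g).toLinearMap (subst M g⁻¹).toLinearMap
          (LinearMap.ext fun z => by
            show subst M g (subst M g⁻¹ z) = z
            rw [← AlgHom.comp_apply, ← hcomp, mul_inv_cancel, hone])
          (LinearMap.ext fun z => by
            show subst M g⁻¹ (subst M g z) = z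
            rw [← AlgHom.comp_apply, ← hcomp, inv_mul_cancel, hone]))
          (fun g g' => LinearEquiv.ext fun z => by
            show subst M (g * g') z = subst M g (subst M g' z)
            rw [hcomp]; rfl)
      naturality := fun {B B'} _ _ _ _ ψ g x => by
        show VecGrp.Wmap ψ (subst M g x) = subst M (VecGrp.ptMap ψ ≫ g) (VecGrp.Wmap ψ x)
        let P : B ⊗[k] Pol →ₐ[k] B' ⊗[k] Pol := Algebra.TensorProduct.map ψ (AlgHom.id k _)
        have hP : ∀ z, VecGrp.Wmap ψ z = P z := fun z => by
          induction z using TensorProduct.induction_on with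
          | zero => simp
          | tmul p q => simp [P]
          | add p q hp hq => rw [map_add, map_add, hp, hq]
        rw [hP, hP]
        refine AlgHom.congr_fun (show P.comp ((subst M g).restrictScalars k) =
          ((subst M (VecGrp.ptMap ψ ≫ g)).restrictScalars k).comp P from Algebra.TensorProduct.ext ?_ ?_) x
        · ext b
          simp [P, subst, liftB, substVar]
        · refine MvPolynomial.algHom_ext fun a => ?_
          show P (subst M g ((1 : B) ⊗ₜ[k] MvPolynomial.X a)) = subst M (VecGrp.ptMap ψ ≫ g) (P ((1 : B) ⊗ₜ[k] MvPolynomial.X a))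
          simp [P, subst_X, algPt_ptMap] }
  have hσ : σ.IsMult := fun B _ _ g => ⟨fun x y => map_mul (subst M g) x y, map_one (subst M g)⟩
  letI := gAlg G
  have hlB : ∀ (B : Type u) [CommRing B] [Algebra k B] (g : VecGrp.pt k B ⟶ G) a,
      ∑ b, algebraMap k B (l b) * algPt g (M b a) = algebraMap k B (l a) := by
    intro B _ _ g a
    have h0 : (∑ b, algebraMap k Γ(G.left, ⊤) (l b) * M b a) - algebraMap k Γ(G.left, ⊤) (l a) = 0 :=
      S11188.eq_zero_of_pts G _ fun t => by
        simp only [map_sub, map_sum, map_mul,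
          show ∀ c, algPt t (algebraMap k Γ(G.left, ⊤) c) = c from fun c => algPt_appTop_hom t c, hl, sub_self]
    have h1 := congrArg (algPt g) h0
    simpa only [map_sub, map_sum, map_mul, map_zero, sub_eq_zero,
      show ∀ c, algPt g (algebraMap k Γ(G.left, ⊤) c) = algebraMap k B c from fun c => algPt_appTop_hom g c] using h1
  have hker : ∀ v : m → k, (∀ (B : Type u) [CommRing B] [Algebra k B] (g : VecGrp.pt k B ⟶ G) a,
      ∑ b, algebraMap k B (v b) * algPt g (M b a) = algebraMap k B (v a)) →
      σ.IsStable (𝟙 G) ((RingHom.ker (MvPolynomial.aeval (R := k) v)).restrictScalars k) := by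
    intro v hv B _ _ g f hf
    rw [Category.comp_id]
    refine S11212.mem_baseChange_ker (MvPolynomial.aeval (R := k) v).toLinearMap _ ?_
    let E : B ⊗[k] Pol →ₐ[B] B ⊗[k] k := Algebra.TensorProduct.map (AlgHom.id B B) (MvPolynomial.aeval (R := k) v)
    have hE : ∀ z, (MvPolynomial.aeval (R := k) v).toLinearMap.baseChange B z = E z := fun z => by
      induction z using TensorProduct.induction_on with
      | zero => simp
      | tmul p q => simp [E]
      | add p q hp hq => rw [map_add, map_add, hp, hq]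
    rw [hE]
    have e : E.comp (subst M g) = E := by
      refine Algebra.TensorProduct.ext (by ext) (MvPolynomial.algHom_ext fun a => ?_)
      show E (subst M g ((1 : B) ⊗ₜ[k] MvPolynomial.X a)) = E ((1 : B) ⊗ₜ[k] MvPolynomial.X a)
      apply (Algebra.TensorProduct.rid k B B).injective
      rw [subst_X]
      simp only [E, map_sum, Algebra.TensorProduct.map_tmul, MvPolynomial.aeval_X, AlgHom.coe_id, id_eq,
        Algebra.TensorProduct.rid_tmul, Algebra.smul_def, _root_.mul_one]
      exact hv B g a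
    show E.comp (subst M g) ((1 : B) ⊗ₜ[k] f) = 0
    rw [e]
    simp only [E, Algebra.TensorProduct.map_tmul, AlgHom.coe_id, id_eq]
    rw [show MvPolynomial.aeval (R := k) v f = 0 from hf, TensorProduct.tmul_zero]
  let I₀ := RingHom.ker (MvPolynomial.aeval (R := k) (0 : m → k))
  let I₁ := RingHom.ker (MvPolynomial.aeval (R := k) l)
  obtain ⟨a, ha⟩ : ∃ a, l a ≠ 0 := Function.ne_iff.1 hl0
  have htop : I₀ ⊔ I₁ = ⊤ := by
    refine (Ideal.eq_top_iff_one _).2 ?_
    have h1 : (MvPolynomial.C (l a)⁻¹ * MvPolynomial.X a : Pol) ∈ I₀ := by simp [I₀, RingHom.mem_ker]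
    have h2 : (1 - MvPolynomial.C (l a)⁻¹ * MvPolynomial.X a : Pol) ∈ I₁ := by
      simp [I₁, RingHom.mem_ker, inv_mul_cancel₀ ha]
    have := Ideal.add_mem (I₀ ⊔ I₁) (Ideal.mem_sup_left h1) (Ideal.mem_sup_right h2)
    rwa [add_sub_cancel] at this
  haveI : _root_.IsReduced Pol := inferInstance
  have hsep := thmAbiv G hG Pol σ hσ inferInstance I₀ I₁ (RingHom.ker_isPrime _).isRadical (RingHom.ker_isPrime _).isRadical
    (hker 0 fun B _ _ g a => by simp) (hker l hlB) htop
  obtain ⟨x, hx, y, hy, hxy⟩ := Submodule.mem_sup.1 ((Ideal.eq_top_iff_one _).1 hsep)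
  refine ⟨(x : Pol), ?_, fun g ξ => ?_⟩
  · have h1 : MvPolynomial.eval (0 : m → k) (x : Pol) = 0 := hx
    have h2 : MvPolynomial.eval l (y : Pol) = 0 := hy
    have h3 := congrArg (fun z : σ.fixedSubalgebra hσ (𝟙 G) => MvPolynomial.eval l (z : Pol)) hxy
    simp only [Subalgebra.coe_add, map_add, h2, add_zero, Subalgebra.coe_one, map_one] at h3
    rw [h1, h3]
    exact one_ne_zero
  · have h1 := x.2 k g
    rw [Category.comp_id] at h1
    have e : ((Algebra.TensorProduct.productMap (AlgHom.id k k) (MvPolynomial.aeval (R := k) ξ)).comp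
        ((subst M g).restrictScalars k)).comp Algebra.TensorProduct.includeRight =
        MvPolynomial.aeval (R := k) (fun a => ∑ b, ξ b * algPt g (M b a)) := by
      refine MvPolynomial.algHom_ext fun a => ?_
      show Algebra.TensorProduct.productMap (AlgHom.id k k) (MvPolynomial.aeval (R := k) ξ)
        (subst M g ((1 : k) ⊗ₜ[k] MvPolynomial.X a)) = _
      simp [subst_X, map_sum, mul_comm]
    have h2 := congrArg (Algebra.TensorProduct.productMap (AlgHom.id k k) (MvPolynomial.aeval (R := k) ξ)) h1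
    refine ((AlgHom.congr_fun e (x : Pol)).symm.trans h2).trans ?_
    simp [MvPolynomial.aeval_eq_eval]

end Groth.Agent.AGF12.Matsushima

end
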