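import Groth.Prelude.Def_AGF
import Groth.Agent.AGF12.Matsushima.Exact
import Groth.Agent.S11241
import Groth.Agent.S11188

/-!
# Representations on translates of functions, and a representation witnessing a unipotent normal subgroup
-/

set_option autoImplicit false
set_option backward.isDefEq.respectTransparency false
set_option backward.isDefEq.respectTransparency.types false

universe u

open CategoryTheory MonoidalCategory CartesianMonoidalCategory MonObj GrpObj AlgebraicGeometry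
open scoped TensorProduct
open Groth.Agent.CommAlg4.AffPt Groth.Agent

noncomputable section

namespace Groth.Agent.AGF12.Matsushima

attribute [local instance] gAlg

variable {k : Type u} [Field k] [IsAlgClosed k] {G : Over (Spec (CommRingCat.of k))} [GrpObj G] [IsAffine G.left] [Smooth G.hom]

omit [GrpObj G] in
theorem ext_pts {x y : Γ(G.left, ⊤)} (h : ∀ t : VecGrp.pt k k ⟶ G, algPt t x = algPt t y) : x = y := by
  haveI : AlgebraicGeometry.IsReduced G.left := WeilLib.isReduced_of_smooth G.hom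
  exact sub_eq_zero.1 (S11188.eq_zero_of_pts G _ fun t => by rw [map_sub, h, sub_self])

omit [GrpObj G] [IsAlgClosed k] [IsAffine G.left] [Smooth G.hom] in
theorem algPt_smul_const (t : VecGrp.pt k k ⟶ G) (c : k) (x : Γ(G.left, ⊤)) : algPt t (c • x) = c * algPt t x := by
  rw [Algebra.smul_def, map_mul, show algPt t (algebraMap k Γ(G.left, ⊤) c) = c from algPt_appTop_hom t c]

omit [IsAlgClosed k] [Smooth G.hom] in
/-- Translates of a function depend polynomially on the two points. -/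
theorem exists_translate_span (f : Γ(G.left, ⊤)) : ∃ S : Finset (Γ(G.left, ⊤) × Γ(G.left, ⊤)),
    ∀ g t : VecGrp.pt k k ⟶ G, algPt (g * t) f = ∑ p ∈ S, algPt g p.1 * algPt t p.2 := by
  obtain ⟨uG, hu⟩ := exists_univ_pt G
  obtain ⟨S, hS⟩ := TensorProduct.exists_finset (algPt
    ((VecGrp.ptMap (Algebra.TensorProduct.includeLeft : Γ(G.left, ⊤) →ₐ[k] Γ(G.left, ⊤) ⊗[k] Γ(G.left, ⊤)) ≫ uG) *
      (VecGrp.ptMap (Algebra.TensorProduct.includeRight : Γ(G.left, ⊤) →ₐ[k] Γ(G.left, ⊤) ⊗[k] Γ(G.left, ⊤)) ≫ uG)) f)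
  refine ⟨S, fun g t => ?_⟩
  obtain ⟨φ, hφ⟩ := exists_algHom g
  obtain ⟨ψ, hψ⟩ := exists_algHom t
  let P := Algebra.TensorProduct.productMap φ ψ
  have h1 := congrArg P hS
  rw [← algPt_ptMap P, MonObj.comp_mul, map_sum] at h1
  refine Eq.trans (congrArg (fun z => algPt z f) (congrArg₂ (fun a b => a * b) ?_ ?_))
    (h1.trans (Finset.sum_congr rfl fun p _ => by simp [P, hφ, hψ]))
  · exact (pt_eq _ _ fun y => by rw [algPt_ptMap, algPt_ptMap, hu]; simp [P, hφ]).symm
  · exact (pt_eq _ _ fun y => by rw [algPt_ptMap, algPt_ptMap, hu]; simp [P, hψ]).symm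

set_option synthInstance.maxHeartbeats 400000 in
/-- The representation on right translates of a vector of functions. -/
theorem exists_rightRep {n : Type u} [Fintype n] (x : n → Γ(G.left, ⊤)) :
    ∃ (V : Submodule k (n → Γ(G.left, ⊤))) (_ : Module.Finite k V) (R : (VecGrp.pt k k ⟶ G) →* Module.End k V),
      x ∈ V ∧ (∀ (g : VecGrp.pt k k ⟶ G) (v : V) (t : VecGrp.pt k k ⟶ G) c, algPt t ((R g v).1 c) = algPt (t * g) (v.1 c)) ∧
      (∀ P : Submodule k (n → Γ(G.left, ⊤)),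
        (∀ (g : VecGrp.pt k k ⟶ G) v, (∀ (t : VecGrp.pt k k ⟶ G) c, algPt t (v c) = algPt (t * g) (x c)) → v ∈ P) → V ≤ P) ∧
      ∀ (v : V) (l : V →ₗ[k] k), ∃ F : Γ(G.left, ⊤), ∀ g : VecGrp.pt k k ⟶ G, algPt g F = l (R g v) := by
  classical
  choose S hS using fun f : Γ(G.left, ⊤) => exists_translate_span f
  let rt : (VecGrp.pt k k ⟶ G) → (n → Γ(G.left, ⊤)) →ₗ[k] (n → Γ(G.left, ⊤)) := fun g =>
    { toFun := fun w c => ∑ p ∈ S (w c), algPt g p.2 • p.1
      map_add' := fun w w' => funext fun c => ext_pts fun t => by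
        simp only [Pi.add_apply, map_add, map_sum, algPt_smul_const, mul_comm (algPt g _), ← hS]
      map_smul' := fun a w => funext fun c => ext_pts fun t => by
        simp only [Pi.smul_apply, RingHom.id_apply, map_sum, algPt_smul_const, mul_comm (algPt g _), ← hS] }
  have hrt : ∀ g w t c, algPt t (rt g w c) = algPt (t * g) (w c) := fun g w t c => by
    show algPt t (∑ p ∈ S (w c), algPt g p.2 • p.1) = _
    simp only [map_sum, algPt_smul_const, mul_comm (algPt g _), ← hS]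
  let V : Submodule k (n → Γ(G.left, ⊤)) := Submodule.span k (Set.range fun g => rt g x)
  let Φ : (∀ c : n, {p // p ∈ S (x c)} → k) →ₗ[k] (n → Γ(G.left, ⊤)) :=
    LinearMap.pi fun c => (Fintype.linearCombination k fun p : {p // p ∈ S (x c)} => p.1.1) ∘ₗ LinearMap.proj c
  haveI : Module.Finite k V := Submodule.finiteDimensional_of_le (S₂ := LinearMap.range Φ) <| Submodule.span_le.2 fun w hw => by
    obtain ⟨g, rfl⟩ := hw
    refine ⟨fun c p => algPt g p.1.2, funext fun c => ?_⟩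
    show Fintype.linearCombination k (fun p : {p // p ∈ S (x c)} => p.1.1) (fun p => algPt g p.1.2) = rt g x c
    rw [Fintype.linearCombination_apply]
    exact Finset.sum_attach (S (x c)) fun p => algPt g p.2 • p.1
  have hst : ∀ g w, w ∈ V → rt g w ∈ V := fun g w hw => by
    induction hw using Submodule.span_induction with
    | mem w hw =>
      obtain ⟨g', rfl⟩ := hw
      refine Submodule.subset_span ⟨g * g', funext fun c => ext_pts fun t => ?_⟩
      rw [hrt, hrt, hrt, _root_.mul_assoc]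
    | zero => simp
    | add a b _ _ ha hb => rw [map_add]; exact V.add_mem ha hb
    | smul a b _ hb => rw [map_smul]; exact V.smul_mem a hb
  let R : (VecGrp.pt k k ⟶ G) →* Module.End k V :=
    { toFun := fun g => (rt g).restrict (hst g)
      map_one' := LinearMap.ext fun v => Subtype.ext <| funext fun c => ext_pts fun t => by
        show algPt t (rt 1 v.1 c) = algPt t (v.1 c)
        rw [hrt, _root_.mul_one]
      map_mul' := fun g g' => LinearMap.ext fun v => Subtype.ext <| funext fun c => ext_pts fun t => by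
        show algPt t (rt (g * g') v.1 c) = algPt t (rt g (rt g' v.1) c)
        rw [hrt, hrt, hrt, _root_.mul_assoc] }
  refine ⟨V, inferInstance, R, Submodule.subset_span ⟨1, funext fun c => ext_pts fun t => by rw [hrt, _root_.mul_one]⟩,
    fun g v t c => hrt g v.1 t c, fun P hP => Submodule.span_le.2 ?_, fun v l => ?_⟩
  · rintro w ⟨g, rfl⟩
    exact hP g _ fun t c => hrt g x t c
  · let e : n × (VecGrp.pt k k ⟶ G) → (V →ₗ[k] k) := fun q =>
      { toFun := fun w => algPt q.2 (w.1 q.1)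
        map_add' := fun w w' => map_add _ _ _
        map_smul' := fun a w => algPt_smul_const _ _ _ }
    have htop : Submodule.span k (Set.range e) = ⊤ := by
      by_contra hne
      obtain ⟨f, hf0, hf⟩ := Submodule.exists_dual_map_eq_bot_of_lt_top (lt_top_iff_ne_top.2 hne) inferInstance
      apply hf0
      have hw : (Module.evalEquiv k V).symm f = 0 := Subtype.ext <| funext fun c => ext_pts fun t => by
        show e (c, t) ((Module.evalEquiv k V).symm f) = algPt t 0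
        rw [map_zero, Module.apply_evalEquiv_symm_apply, ← Submodule.mem_bot k, ← hf]
        exact Submodule.mem_map_of_mem (Submodule.subset_span ⟨(c, t), rfl⟩)
      simpa using congrArg (Module.evalEquiv k V) hw
    obtain ⟨a, ha⟩ := Finsupp.mem_span_range_iff_exists_finsupp.1 (show l ∈ Submodule.span k (Set.range e) by rw [htop]; trivial)
    refine ⟨∑ q ∈ a.support, a q • ∑ p ∈ S (v.1 q.1), algPt q.2 p.1 • p.2, fun g => ?_⟩
    rw [← ha, Finsupp.sum, map_sum, LinearMap.sum_apply]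
    refine Finset.sum_congr rfl fun q _ => ?_
    simp only [algPt_smul_const, map_sum, LinearMap.smul_apply, smul_eq_mul, ← hS]
    exact congrArg (a q * ·) (hrt g v.1 q.2 q.1).symm

/-- Matrices of a representation which is unipotent on a subgroup. -/
theorem exists_matrix_of_module {U : Over (Spec (CommRingCat.of k))} [GrpObj U] (κ : U ⟶ G) [IsMonHom κ]
    {M : Type u} [AddCommGroup M] [Module k M] [Module.Finite k M] (T : (VecGrp.pt k k ⟶ G) →* Module.End k M)
    (hreg : ∀ (φ : M) (l : M →ₗ[k] k), ∃ F : Γ(G.left, ⊤), ∀ t, algPt t F = l (T t φ))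
    (π' : M →ₗ[k] k) (hπT : ∀ t φ, π' (T t φ) = π' φ) (φ₀ : M) (hφ₀ : π' φ₀ = 1)
    (D : (VecGrp.pt k k ⟶ U) → M) (hTD : ∀ u φ, T (u ≫ κ) φ = φ + π' φ • D u) (hD : ∃ u, D u ≠ 0) :
    ∃ (n : Type u) (_ : Fintype n) (_ : DecidableEq n) (ρ : (VecGrp.pt k k ⟶ G) →* Matrix n n k)
      (F : n → n → Γ(G.left, ⊤)) (π a₀ : n → k) (δ : n → Γ(U.left, ⊤)),
      (∀ y a b, algPt y (F a b) = ρ y a b) ∧ (∀ y, Matrix.vecMul π (ρ y) = π) ∧ π ⬝ᵥ a₀ = 1 ∧
      (∀ (u : VecGrp.pt k k ⟶ U) a b, ρ (u ≫ κ) a b = (if a = b then 1 else 0) + algPt u (δ a) * π b) ∧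
      ∃ (u : VecGrp.pt k k ⟶ U) (a : n), algPt u (δ a) ≠ (0 : k) := by
  classical
  let b := (Module.finBasis k M).reindex Equiv.ulift.{u}.symm
  choose F hF using fun a c => hreg (b c) (b.coord a)
  let ρ : (VecGrp.pt k k ⟶ G) →* Matrix _ _ k := (LinearMap.toMatrixAlgEquiv b).toMonoidHom.comp T
  have hρ : ∀ g a c, ρ g a c = b.repr (T g (b c)) a := fun g a c => LinearMap.toMatrixAlgEquiv_apply b (T g) a c
  let π : _ → k := fun a => π' (b a)
  let a₀ : _ → k := fun a => b.repr φ₀ a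
  have hπv : ∀ φ : M, ∑ a, π a * b.repr φ a = π' φ := fun φ => by
    conv_rhs => rw [← b.sum_repr φ]
    rw [map_sum]
    simp only [π, map_smul, smul_eq_mul]
    exact Finset.sum_congr rfl fun a _ => mul_comm _ _
  have hu : ∀ (u : VecGrp.pt k k ⟶ U) a c, ρ (u ≫ κ) a c = (if a = c then 1 else 0) + b.repr (D u) a * π c := fun u a c => by
    rw [hρ, hTD, map_add, map_smul, Finsupp.add_apply, Finsupp.smul_apply, b.repr_self, Finsupp.single_apply, smul_eq_mul, mul_comm (π' (b c))]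
    congr 1
    simp [eq_comm]
  have hδ : ∀ (u : VecGrp.pt k k ⟶ U) a,
      algPt u ((∑ c, a₀ c • κ.left.appTop (F a c)) - algebraMap k Γ(U.left, ⊤) (a₀ a)) = b.repr (D u) a := fun u a => by
    rw [map_sub, map_sum, show algPt u (algebraMap k Γ(U.left, ⊤) (a₀ a)) = a₀ a from algPt_appTop_hom _ _]
    have e : ∀ c, algPt u (a₀ c • κ.left.appTop (F a c)) = a₀ c * (if a = c then 1 else 0) + b.repr (D u) a * (π c * a₀ c) := fun c => by
      rw [algPt_smul_const, ← algPt_comp, hF, show b.coord a (T (u ≫ κ) (b c)) = ρ (u ≫ κ) a c from (hρ _ _ _).symm, hu]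
      ring
    simp only [e, Finset.sum_add_distrib, mul_ite, _root_.mul_one, mul_zero, Finset.sum_ite_eq, Finset.mem_univ, if_true,
      ← Finset.mul_sum]
    rw [show ∑ c, π c * a₀ c = 1 from (hπv φ₀).trans hφ₀, _root_.mul_one, add_sub_cancel_left]
  refine ⟨_, inferInstance, inferInstance, ρ, F, π, a₀,
    fun a => (∑ c, a₀ c • κ.left.appTop (F a c)) - algebraMap k Γ(U.left, ⊤) (a₀ a),
    fun y a c => by rw [hF, hρ]; rfl, fun y => funext fun c => ?_, (hπv φ₀).trans hφ₀, fun u a c => by rw [hu, hδ], ?_⟩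
  · show ∑ a, π a * ρ y a c = π c
    simp only [hρ, hπv]
    exact hπT y (b c)
  · obtain ⟨u, huv⟩ := hD
    refine ⟨u, ?_⟩
    by_contra hc
    push Not at hc
    have h0 : D u = 0 := b.repr.injective (Finsupp.ext fun a => by rw [map_zero, ← hδ u a]; exact hc a)
    exact huv h0

/-- The affine representation attached to a two-step flag on which a subgroup acts unipotently. -/
theorem exists_matrix_of_flag {U : Over (Spec (CommRingCat.of k))} [GrpObj U] (κ : U ⟶ G) [IsMonHom κ]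
    {V : Type u} [AddCommGroup V] [Module k V] [Module.Finite k V] (R : (VecGrp.pt k k ⟶ G) →* Module.End k V)
    (hR : ∀ (v : V) (l : V →ₗ[k] k), ∃ F : Γ(G.left, ⊤), ∀ t, algPt t F = l (R t v))
    (W : Submodule k V) (hW : ∀ g v, v ∈ W → R g v ∈ W) (hfix : ∀ u : VecGrp.pt k k ⟶ U, ∀ v ∈ W, R (u ≫ κ) v = v)
    (hquot : ∀ (u : VecGrp.pt k k ⟶ U) v, R (u ≫ κ) v - v ∈ W) (hne : W ≠ ⊤)
    (hmove : ∃ (u : VecGrp.pt k k ⟶ U) (v : V), R (u ≫ κ) v ≠ v) :
    ∃ (n : Type u) (_ : Fintype n) (_ : DecidableEq n) (ρ : (VecGrp.pt k k ⟶ G) →* Matrix n n k)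
      (F : n → n → Γ(G.left, ⊤)) (π a₀ : n → k) (δ : n → Γ(U.left, ⊤)),
      (∀ y a b, algPt y (F a b) = ρ y a b) ∧ (∀ y, Matrix.vecMul π (ρ y) = π) ∧ π ⬝ᵥ a₀ = 1 ∧
      (∀ (u : VecGrp.pt k k ⟶ U) a b, ρ (u ≫ κ) a b = (if a = b then 1 else 0) + algPt u (δ a) * π b) ∧
      ∃ (u : VecGrp.pt k k ⟶ U) (a : n), algPt u (δ a) ≠ (0 : k) := by
  classical
  obtain ⟨v₀, hv₀⟩ : ∃ v₀, v₀ ∉ W := not_forall.1 fun h => hne (Submodule.eq_top_iff'.2 h)
  obtain ⟨μ', hμW, hμ1⟩ := LinearMap.exists_extend_of_notMem (p := W) 0 hv₀ (1 : k)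
  have hμ : ∀ w ∈ W, μ' w = 0 := fun w hw => LinearMap.congr_fun hμW ⟨w, hw⟩
  let M : Submodule k (Module.End k V) :=
    { carrier := {φ | (∀ w ∈ W, φ w = 0) ∧ ∀ v, φ v - μ' (φ v₀) • v ∈ W}
      zero_mem' := ⟨fun _ _ => rfl, fun v => by simp⟩
      add_mem' := fun {φ ψ} h h' => ⟨fun w hw => by simp [h.1 w hw, h'.1 w hw], fun v => by
        convert W.add_mem (h.2 v) (h'.2 v) using 1
        simp only [LinearMap.add_apply, map_add, add_smul]; abel⟩
      smul_mem' := fun a φ h => ⟨fun w hw => by simp [h.1 w hw], fun v => by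
        convert W.smul_mem a (h.2 v) using 1
        simp [smul_sub, mul_smul]⟩ }
  let π' : M →ₗ[k] k :=
    { toFun := fun φ => μ' (φ.1 v₀)
      map_add' := fun _ _ => by simp
      map_smul' := fun _ _ => by simp }
  have hinv : ∀ g v, R g (R g⁻¹ v) = v := fun g v => by
    rw [← Module.End.mul_apply, ← map_mul, mul_inv_cancel, map_one, Module.End.one_apply]
  have hconj : ∀ g φ, φ ∈ M → R g * φ * R g⁻¹ ∈ M ∧ μ' ((R g * φ * R g⁻¹) v₀) = μ' (φ v₀) := fun g φ hφ => by
    have h1 : ∀ v, (R g * φ * R g⁻¹) v - μ' (φ v₀) • v ∈ W := fun v => by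
      have := hW g _ (hφ.2 (R g⁻¹ v))
      rwa [map_sub, map_smul, hinv] at this
    have h2 : μ' ((R g * φ * R g⁻¹) v₀) = μ' (φ v₀) := by
      have := hμ _ (h1 v₀)
      rwa [map_sub, map_smul, hμ1, smul_eq_mul, _root_.mul_one, sub_eq_zero] at this
    refine ⟨⟨fun w hw => ?_, fun v => by rw [h2]; exact h1 v⟩, h2⟩
    show R g (φ (R g⁻¹ w)) = 0
    rw [hφ.1 _ (hW _ _ hw), map_zero]
  let T : (VecGrp.pt k k ⟶ G) →* Module.End k M :=
    { toFun := fun g =>
        { toFun := fun φ => ⟨R g * φ.1 * R g⁻¹, (hconj g φ.1 φ.2).1⟩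
          map_add' := fun φ ψ => Subtype.ext (by
            show R g * (φ.1 + ψ.1) * R g⁻¹ = R g * φ.1 * R g⁻¹ + R g * ψ.1 * R g⁻¹
            rw [mul_add, add_mul])
          map_smul' := fun a φ => Subtype.ext (by
            show R g * (a • φ.1) * R g⁻¹ = a • (R g * φ.1 * R g⁻¹)
            rw [mul_smul_comm, smul_mul_assoc]) }
      map_one' := LinearMap.ext fun φ => Subtype.ext (by
        show R 1 * φ.1 * R 1⁻¹ = φ.1
        rw [inv_one, map_one, _root_.one_mul, _root_.mul_one])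
      map_mul' := fun g g' => LinearMap.ext fun φ => Subtype.ext (by
        show R (g * g') * φ.1 * R (g * g')⁻¹ = R g * (R g' * φ.1 * R g'⁻¹) * R g⁻¹
        simp only [_root_.mul_inv_rev, map_mul, _root_.mul_assoc]) }
  let bV := Module.finBasis k V
  let A : (VecGrp.pt k k ⟶ G) → Matrix _ _ k := fun g => LinearMap.toMatrix bV bV (R g)
  choose FA hFA using fun a b => hR (bV b) (bV.coord a)
  have hA : ∀ g a b, algPt g (FA a b) = A g a b := fun g a b => by
    rw [hFA]; exact (LinearMap.toMatrix_apply bV bV (R g) a b).symm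
  have hreg : ∀ (φ : M) (l : M →ₗ[k] k), ∃ F : Γ(G.left, ⊤), ∀ g, algPt g F = l (T g φ) := fun φ l => by
    obtain ⟨l', rfl⟩ := LinearMap.exists_extend l
    let L : Matrix _ _ k := fun a b => l' ((LinearMap.toMatrix bV bV).symm (Matrix.single a b 1))
    refine ⟨∑ a, ∑ b, ∑ c, ∑ d, (L a b * LinearMap.toMatrix bV bV φ.1 d c) • (FA a d * (ι[G]).left.appTop (FA c b)), fun g => ?_⟩
    have e : ∀ ψ : Module.End k V, l' ψ = ∑ a, ∑ b, LinearMap.toMatrix bV bV ψ a b * L a b := fun ψ => by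
      conv_lhs => rw [← (LinearMap.toMatrix bV bV).symm_apply_apply ψ, Matrix.matrix_eq_sum_single (LinearMap.toMatrix bV bV ψ)]
      simp only [map_sum]
      refine Finset.sum_congr rfl fun a _ => Finset.sum_congr rfl fun b _ => ?_
      rw [show Matrix.single a b (LinearMap.toMatrix bV bV ψ a b) = LinearMap.toMatrix bV bV ψ a b • Matrix.single a b (1 : k) by
        rw [Matrix.smul_single, smul_eq_mul, _root_.mul_one], map_smul, map_smul]
      rfl
    rw [show (l' ∘ₗ M.subtype) (T g φ) = l' (R g * φ.1 * R g⁻¹) from rfl, e]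
    simp only [LinearMap.toMatrix_mul, Matrix.mul_apply, map_sum, algPt_smul_const, map_mul, ← algPt_comp, ← Hom.inv_def, hA]
    refine Finset.sum_congr rfl fun a _ => Finset.sum_congr rfl fun b _ => ?_
    simp only [Finset.sum_mul]
    refine Finset.sum_congr rfl fun c _ => Finset.sum_congr rfl fun d _ => ?_
    simp only [A]
    ring
  obtain ⟨q, hq⟩ := LinearMap.exists_leftInverse_of_injective W.subtype W.ker_subtype
  have hq' : ∀ w (hw : w ∈ W), q w = ⟨w, hw⟩ := fun w hw => LinearMap.congr_fun hq ⟨w, hw⟩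
  let φ₀ : M := ⟨(LinearMap.id - W.subtype ∘ₗ q : V →ₗ[k] V), fun w hw => by simp [hq' w hw], fun v => by
    have h1 : μ' ((LinearMap.id - W.subtype ∘ₗ q : V →ₗ[k] V) v₀) = 1 := by simp [hμ _ (q v₀).2, hμ1]
    rw [h1, one_smul]
    simp⟩
  have hφ₀ : π' φ₀ = 1 := by simp [π', φ₀, hμ _ (q v₀).2, hμ1]
  let D : (VecGrp.pt k k ⟶ U) → M := fun u => ⟨R (u ≫ κ) - 1, fun w hw => by simp [hfix u w hw], fun v => by
    have h0 : μ' ((R (u ≫ κ) - 1) v₀) = 0 := hμ _ (hquot u v₀)
    rw [h0, zero_smul, sub_zero]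
    exact hquot u v⟩
  have hTD : ∀ (u : VecGrp.pt k k ⟶ U) (φ : M), T (u ≫ κ) φ = φ + π' φ • D u := fun u φ => by
    refine Subtype.ext (LinearMap.ext fun v => ?_)
    show R (u ≫ κ) (φ.1 (R (u ≫ κ)⁻¹ v)) = φ.1 v + μ' (φ.1 v₀) • (R (u ≫ κ) v - v)
    have h1 : φ.1 (R (u ≫ κ)⁻¹ v) = φ.1 v := by
      rw [← sub_eq_zero, ← map_sub, ← GrpObj.inv_comp]
      exact φ.2.1 _ (hquot u⁻¹ v)
    have h2 := hfix u _ (φ.2.2 v)
    rw [map_sub, map_smul, sub_eq_iff_eq_add] at h2
    rw [h1, h2, smul_sub]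
    abel
  refine exists_matrix_of_module κ T hreg π' (fun g φ => (hconj g φ.1 φ.2).2) φ₀ hφ₀ D hTD ?_
  obtain ⟨u, v, huv⟩ := hmove
  exact ⟨u, fun h0 => huv (sub_eq_zero.1 (LinearMap.congr_fun (congrArg Subtype.val h0) v))⟩

/-- A nontrivial unipotent normal subgroup is seen by an affine representation. -/
theorem exists_matrix_rep {U : Over (Spec (CommRingCat.of k))} [GrpObj U] [IsAffine U.left] [Smooth U.hom]
    [ConnectedSpace U.left] (hU : Red.HasNoSubtorus k U) (κ : U ⟶ G) [IsMonHom κ] (hnorm : AlgGrp.IsNormalHom κ)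
    (f : Γ(G.left, ⊤)) (u₀ : VecGrp.pt k k ⟶ U) (hf : algPt (u₀ ≫ κ) f ≠ algPt (1 : VecGrp.pt k k ⟶ G) f) :
    ∃ (n : Type u) (_ : Fintype n) (_ : DecidableEq n) (ρ : (VecGrp.pt k k ⟶ G) →* Matrix n n k)
      (F : n → n → Γ(G.left, ⊤)) (π a₀ : n → k) (δ : n → Γ(U.left, ⊤)),
      (∀ y a b, algPt y (F a b) = ρ y a b) ∧ (∀ y, Matrix.vecMul π (ρ y) = π) ∧ π ⬝ᵥ a₀ = 1 ∧
      (∀ (u : VecGrp.pt k k ⟶ U) a b, ρ (u ≫ κ) a b = (if a = b then 1 else 0) + algPt u (δ a) * π b) ∧
      ∃ (u : VecGrp.pt k k ⟶ U) (a : n), algPt u (δ a) ≠ (0 : k) := by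
  classical
  obtain ⟨V, _, R, hx, hR, -, hreg⟩ := exists_rightRep (G := G) (fun _ : PUnit.{u + 1} => f)
  let RU : (VecGrp.pt k k ⟶ U) →* Module.End k V :=
    { toFun := fun u => R (u ≫ κ)
      map_one' := by rw [MonObj.one_comp, map_one]
      map_mul' := fun u u' => by rw [MonObj.mul_comp, map_mul] }
  have hregU : ∀ (v : V) (l : V →ₗ[k] k), ∃ F : Γ(U.left, ⊤), ∀ u, algPt u F = l (RU u v) := fun v l => by
    obtain ⟨F, hF⟩ := hreg v l
    exact ⟨κ.left.appTop F, fun u => (algPt_comp u κ F).symm.trans (hF _)⟩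
  have hmove0 : R (u₀ ≫ κ) ⟨_, hx⟩ ≠ ⟨_, hx⟩ := fun h => hf (by
    have h1 := congrArg (fun v : V => algPt (1 : VecGrp.pt k k ⟶ G) (v.1 PUnit.unit)) h
    dsimp only at h1
    rwa [hR, _root_.one_mul] at h1)
  haveI : Nontrivial V := ⟨⟨_, _, hmove0⟩⟩
  let W : Submodule k V :=
    { carrier := {v | ∀ u, RU u v = v}
      zero_mem' := fun u => map_zero _
      add_mem' := fun ha hb u => by rw [map_add, ha u, hb u]
      smul_mem' := fun a v hv u => by rw [map_smul, hv u] }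
  have hnn : ∀ g (u : VecGrp.pt k k ⟶ U), ∃ u' : VecGrp.pt k k ⟶ U, ∀ v, RU u (R g v) = R g (RU u' v) := fun g u => by
    obtain ⟨u', hu'⟩ := hnorm _ g⁻¹ u
    refine ⟨u', fun v => ?_⟩
    show R (u ≫ κ) (R g v) = R g (R (u' ≫ κ) v)
    rw [← hu', _root_.inv_inv, ← Module.End.mul_apply, ← Module.End.mul_apply, ← map_mul, ← map_mul,
      show g * (g⁻¹ * (u ≫ κ) * g) = (u ≫ κ) * g by group]
  have hWst : ∀ g v, v ∈ W → R g v ∈ W := fun g v hv u => by
    obtain ⟨u', hu'⟩ := hnn g u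
    rw [hu', hv u']
  obtain ⟨w, hw0, hw⟩ := S11241.exists_fixed_vector hU RU hregU
  have hWU : ∀ u, W ≤ W.comap (RU u) := fun u v hv => by
    rw [Submodule.mem_comap, hv u]
    exact hv
  have hne : W ≠ ⊤ := fun h => hmove0 ((show (⟨_, hx⟩ : V) ∈ W by rw [h]; trivial) u₀)
  haveI : Nontrivial (V ⧸ W) := Submodule.Quotient.nontrivial_iff.2 hne
  let RQ : (VecGrp.pt k k ⟶ U) →* Module.End k (V ⧸ W) :=
    { toFun := fun u => W.mapQ W (RU u) (hWU u)
      map_one' := Submodule.linearMap_qext _ (LinearMap.ext fun v => by simp)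
      map_mul' := fun u u' => Submodule.linearMap_qext _ (LinearMap.ext fun v => by simp) }
  obtain ⟨z, hz0, hz⟩ := S11241.exists_fixed_vector hU RQ fun z l => by
    obtain ⟨v, rfl⟩ := W.mkQ_surjective z
    obtain ⟨F, hF⟩ := hregU v (l ∘ₗ W.mkQ)
    exact ⟨F, fun u => hF u⟩
  obtain ⟨v, rfl⟩ := W.mkQ_surjective z
  have hv : v ∉ W := fun h => hz0 ((Submodule.Quotient.mk_eq_zero W).2 h)
  let V' : Submodule k V :=
    { carrier := {v | ∀ u, RU u v - v ∈ W}
      zero_mem' := fun u => by simp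
      add_mem' := fun {a b} ha hb u => by
        have := W.add_mem (ha u) (hb u)
        rwa [show RU u (a + b) - (a + b) = RU u a - a + (RU u b - b) by rw [map_add]; abel]
      smul_mem' := fun a v hv u => by
        have := W.smul_mem a (hv u)
        rwa [smul_sub, ← map_smul] at this }
  have hv' : v ∈ V' := fun u => (Submodule.Quotient.eq W).1 (hz u)
  have hst : ∀ g x, x ∈ V' → R g x ∈ V' := fun g x hxV u => by
    obtain ⟨u', hu'⟩ := hnn g u
    rw [hu', ← map_sub]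
    exact hWst _ _ (hxV u')
  let R' : (VecGrp.pt k k ⟶ G) →* Module.End k V' :=
    { toFun := fun g => (R g).restrict (hst g)
      map_one' := LinearMap.ext fun x => Subtype.ext (by simp)
      map_mul' := fun g g' => LinearMap.ext fun x => Subtype.ext (by simp) }
  let W' : Submodule k V' := W.comap V'.subtype
  have hreg' : ∀ (x : V') (l : V' →ₗ[k] k), ∃ F : Γ(G.left, ⊤), ∀ t, algPt t F = l (R' t x) := by
    intro x l
    obtain ⟨l', rfl⟩ := LinearMap.exists_extend l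
    obtain ⟨F, hF⟩ := hreg x.1 l'
    exact ⟨F, fun t => hF t⟩
  have hW' : ∀ g x, x ∈ W' → R' g x ∈ W' := fun g x hxW => hWst g x.1 hxW
  have hfix' : ∀ (u : VecGrp.pt k k ⟶ U), ∀ x ∈ W', R' (u ≫ κ) x = x := fun u x hxW => Subtype.ext (hxW u)
  have hquot' : ∀ (u : VecGrp.pt k k ⟶ U) x, R' (u ≫ κ) x - x ∈ W' := fun u x => x.2 u
  obtain ⟨u, hu⟩ : ∃ u, RU u v ≠ v := not_forall.1 hv
  refine exists_matrix_of_flag (V := V') κ R' hreg' W' hW' hfix' hquot' ?_ ⟨u, ⟨v, hv'⟩, fun h => hu (congrArg Subtype.val h)⟩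
  intro h
  have h1 : (⟨v, hv'⟩ : V') ∈ W' := by rw [h]; trivial
  exact hv h1

end Groth.Agent.AGF12.Matsushima

end
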